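import Groth.Agent.EtLimSmoothLib.FieldBC
import Groth.Agent.CovDevLib.Lqf
import Groth.Agent.EtPBCProperLib.Point
import Groth.Agent.EtBcBridgeLib.Criterion

/-!
# Field extensions are universally acyclic
-/

set_option autoImplicit false
set_option linter.all false
set_option backward.isDefEq.respectTransparency false
set_option backward.isDefEq.respectTransparency.types false
set_option synthInstance.maxHeartbeats 400000
set_option maxHeartbeats 1600000

universe u

open CategoryTheory CategoryTheory.Limits AlgebraicGeometry Opposite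
open Groth.Agent Groth.Agent.EtShLib DescSecLib EtContLib

noncomputable section

namespace EtLimSmoothLib

attribute [local instance] EtSliceLib.pullExact

variable {k K : Type u} [Field k] [Field K] (φ : k →+* K)

/-- The primes invertible on the spectrum of a field. -/
theorem primesInvertibleOn_field :
    EtAcyc.primesInvertibleOn (Spec (CommRingCat.of k)) = {ℓ | ℓ.Prime ∧ ℓ ≠ ringChar k} := by
  have key : ∀ (x : Spec (CommRingCat.of k)) (ℓ : ℕ),
      ((ℓ : (Spec (CommRingCat.of k)).residueField x) = 0 ↔ (ℓ : k) = 0) := fun x ℓ => by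
    let e : k →+* (Spec (CommRingCat.of k)).residueField x :=
      ((Spec (CommRingCat.of k)).Γevaluation x).hom.comp (Scheme.ΓSpecIso (CommRingCat.of k)).inv.hom
    rw [← map_natCast e, map_eq_zero_iff e e.injective]
  ext ℓ
  refine and_congr_right fun hℓ => ⟨fun h hc => ?_, fun h x hx => ?_⟩
  · exact h ⟨⊥, Ideal.isPrime_bot⟩ ((key _ ℓ).2 (by rw [hc]; exact ringChar.Nat.cast_ringChar))
  · rcases (Nat.dvd_prime hℓ).1 ((ringChar.spec k ℓ).1 ((key x ℓ).1 hx)) with h1 | h1
    · exact CharP.ringChar_ne_one h1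
    · exact h h1.symm

theorem exists_prime_field : ∃ ℓ ∈ EtAcyc.primesInvertibleOn (Spec (CommRingCat.of k)), ℓ.Prime := by
  rw [primesInvertibleOn_field]
  by_cases h : ringChar k = 2
  · exact ⟨3, ⟨Nat.prime_three, by omega⟩, Nat.prime_three⟩
  · exact ⟨2, ⟨Nat.prime_two, fun h2 => h h2.symm⟩, Nat.prime_two⟩

/-- Base changes of field extensions are locally acyclic. -/
theorem isLocAcyclicN_baseChange {X₁ Y₁ : Scheme.{u}} (g₁ : X₁ ⟶ Y₁) (b' : X₁ ⟶ Spec (CommRingCat.of K))
    (b : Y₁ ⟶ Spec (CommRingCat.of k)) (hsq : IsPullback b' g₁ (Spec.map (CommRingCat.ofHom φ)) b) (n : ℕ) :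
    EtAcyc.IsLocAcyclicN g₁ (EtAcyc.primesInvertibleOn (Spec (CommRingCat.of k))) n := by
  refine EtBcBridgeLib.isLocAcyclicN_of_openBC exists_prime_field ?_
  intro Y' X' i a g' sq hi hi' T Z j h e c hj hj' F hF q _
  haveI := hj
  haveI := hj'
  exact isIso_bcQ_field φ (i ≫ b) j g' (a ≫ b') (sq.paste_horiz hsq).flip h e c F hF q

/-- An extension of separably closed fields. -/
theorem compN_field [IsSepClosed k] [IsSepClosed K] (L : Set ℕ) (n : ℕ) :
    EtAcyc.CompN (Spec.map (CommRingCat.ofHom φ)) L n := by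
  intro F hF _
  have hz : ∀ m : ℕ, Function.Bijective (EtCore.Hpull (Spec.map (CommRingCat.ofHom φ)) F m) := fun m => by
    cases m with
    | zero => exact EtPBCProperLib.bijective_Hpull_point k _ F
    | succ j => exact ⟨fun x y _ => (EtAcycFibLib.eq_zero_of_point _ j x).trans (EtAcycFibLib.eq_zero_of_point _ j y).symm,
        fun y => ⟨0, (map_zero _).trans (EtAcycFibLib.eq_zero_of_point _ j y).symm⟩⟩
  exact ⟨fun q _ => hz q, (hz (n + 1)).1⟩

/-- Over a quasi-compact quasi-separated base. -/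
theorem compN_baseChange [IsSepClosed k] [IsSepClosed K] {Xb Yb : Scheme.{u}}
    (p : Xb ⟶ Spec (CommRingCat.of k)) [CompactSpace Xb] [QuasiSeparatedSpace Xb]
    (hb : Yb ⟶ Xb) (pY : Yb ⟶ Spec (CommRingCat.of K))
    (sq : IsPullback hb pY p (Spec.map (CommRingCat.ofHom φ))) (n : ℕ) :
    EtAcyc.CompN hb (EtAcyc.primesInvertibleOn (Spec (CommRingCat.of k))) n := by
  haveI : QuasiCompact p := (quasiCompact_iff_compactSpace p).2 inferInstance
  haveI : QuasiSeparated p := (quasiSeparated_iff_quasiSeparatedSpace p).2 inferInstance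
  have hS : IsPullback (Spec.map (CommRingCat.ofHom φ)) (𝟙 _) (𝟙 _) (Spec.map (CommRingCat.ofHom φ)) :=
    IsPullback.of_vert_isIso ⟨by simp⟩
  have h := fun Fb hFb q => isIso_bcQ_field φ (𝟙 _) p (Spec.map (CommRingCat.ofHom φ)) (𝟙 _) hS pY hb sq Fb hFb q
  exact EtBcQLib.compN_of_bc p (Spec.map (CommRingCat.ofHom φ)) pY hb sq.w (compN_field φ _ n)
    fun Fb hFb => ⟨fun i _ => h Fb hFb i, haveI := h Fb hFb (n + 1); inferInstance⟩

/-- Base changes of extensions of separably closed fields are acyclic. -/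
theorem isAcyclicN_baseChange [IsSepClosed k] [IsSepClosed K] {X₁ Y₁ : Scheme.{u}} (g₁ : X₁ ⟶ Y₁)
    (b' : X₁ ⟶ Spec (CommRingCat.of K)) (b : Y₁ ⟶ Spec (CommRingCat.of k))
    (hsq : IsPullback b' g₁ (Spec.map (CommRingCat.ofHom φ)) b) (n : ℕ) :
    EtAcyc.IsAcyclicN g₁ (EtAcyc.primesInvertibleOn (Spec (CommRingCat.of k))) n := by
  refine (EtAcycLib.isAcyclicN_iff g₁ _ n).2 fun V F hF => ?_
  refine CovDevLib.unit_vanish_of_basis (EtAcyc.prj g₁ V) F n (fun W => IsAffine W.left) (fun W w => ?_)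
    (fun W hW m hm => ?_)
  · obtain ⟨A, hA, hwA, -⟩ := exists_isAffineOpen_mem_and_subset (X := W.left) (x := w) (U := ⊤) trivial
    haveI : AlgebraicGeometry.Etale W.hom := W.prop
    exact ⟨Scheme.Etale.mk (A.ι ≫ W.hom), MorphismProperty.Over.homMk A.ι rfl, ⟨⟨w, hwA⟩, rfl⟩, hA⟩
  haveI : IsAffine W.left := hW
  haveI : CompactSpace ↥((𝟭 Scheme.{u}).obj W.left) := inferInstanceAs (CompactSpace W.left)
  haveI : QuasiSeparatedSpace ↥((𝟭 Scheme.{u}).obj W.left) := inferInstanceAs (QuasiSeparatedSpace W.left)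
  have h1 : IsPullback (pullback.fst V.hom g₁) (pullback.snd V.hom g₁ ≫ b') (V.hom ≫ b)
      (Spec.map (CommRingCat.ofHom φ)) :=
    (IsPullback.of_hasPullback V.hom g₁).paste_vert hsq.flip
  have h2 := (IsPullback.of_hasPullback W.hom (EtAcyc.prj g₁ V)).paste_vert h1
  exact (compN_baseChange φ (W.hom ≫ V.hom ≫ b) _ _ h2 n _ (EtAcycLib.isLTorsion_pull_any W.hom hF)).1 m hm

end EtLimSmoothLib
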