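import Mathlib.RingTheory.Smooth.Locus
import Mathlib.RingTheory.Smooth.Field
import Mathlib.RingTheory.FiniteStability
import Mathlib.FieldTheory.PurelyInseparable.PerfectClosure
import Mathlib.AlgebraicGeometry.Morphisms.Smooth
import Mathlib.CategoryTheory.Limits.Types.Filtered
import Groth.Agent.GenSmoothLib

/-!
# An extension of a perfect field as the limit of smooth algebras
-/

set_option autoImplicit false
set_option linter.all false

universe u

open CategoryTheory CategoryTheory.Limits AlgebraicGeometry Opposite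

noncomputable section

namespace EtLimSmoothLib

variable (K L : Type u) [Field K] [Field L] [Algebra K L]

/-- Generic smoothness, keeping track of the generators. -/
theorem exists_smooth_containing {R : Type u} [CommRing R] [IsNoetherianRing R]
    {F : Type u} [Field F] [Algebra R F] [Algebra.FormallySmooth R F] (s : Finset F)
    (hs : ∀ x : F, ∃ y ∈ Algebra.adjoin R (↑s : Set F), ∃ z ∈ Algebra.adjoin R (↑s : Set F), y / z = x) :
    ∃ A : Subalgebra R F, Algebra.Smooth R A ∧ (↑s : Set F) ⊆ A := by
  let A₀ := Algebra.adjoin R (↑s : Set F)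
  have : Algebra.FiniteType R A₀ :=
    (Subalgebra.fg_iff_finiteType A₀).1 (Subalgebra.fg_adjoin_finset s)
  have : Algebra.FinitePresentation R A₀ := Algebra.FinitePresentation.of_finiteType.1 this
  have hfr : IsFractionRing A₀ F := IsFractionRing.of_field _ _ fun x => by
    obtain ⟨y, hy, z, hz, rfl⟩ := hs x
    exact ⟨⟨y, hy⟩, ⟨z, hz⟩, rfl⟩
  have hsm : Algebra.IsSmoothAt R (⊥ : Ideal A₀) := by
    have : IsFractionRing A₀ (Localization.AtPrime (⊥ : Ideal A₀)) := by
      unfold IsFractionRing
      rw [← Ideal.primeCompl_bot]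
      infer_instance
    exact Algebra.FormallySmooth.of_equiv
      ((IsLocalization.algEquiv (nonZeroDivisors A₀) F
        (Localization.AtPrime (⊥ : Ideal A₀))).restrictScalars R)
  obtain ⟨g, hg, hgs⟩ := Algebra.IsSmoothAt.exists_notMem_smooth R (⊥ : Ideal A₀)
  have hg0 : g ≠ 0 := by simpa using hg
  let φ : Localization.Away g →ₐ[R] F :=
    IsLocalization.liftAlgHom (M := Submonoid.powers g) (f := A₀.val) (by
      rintro ⟨_, n, rfl⟩
      simpa using (isUnit_iff_ne_zero.2 (pow_ne_zero n (Subtype.coe_injective.ne hg0))))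
  have hcomp : ∀ a : A₀, φ (algebraMap A₀ _ a) = (a : F) := fun a => by simp [φ]
  have hinj : Function.Injective φ := by
    rw [injective_iff_map_eq_zero]
    intro x hx
    obtain ⟨⟨a, m⟩, ha⟩ := IsLocalization.surj (Submonoid.powers g) x
    have h1 : (a : F) = 0 := by rw [← hcomp, ← ha, map_mul, hx, zero_mul]
    have h2 : a = 0 := Subtype.ext h1
    simp only [h2, map_zero] at ha
    exact (IsLocalization.map_units (Localization.Away g) m).mul_left_eq_zero.1 ha
  let e : Localization.Away g ≃ₐ[R] φ.range := AlgEquiv.ofInjective φ hinj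
  exact ⟨φ.range, Algebra.Smooth.of_equiv e,
    fun a ha => ⟨_, hcomp ⟨a, Algebra.subset_adjoin ha⟩⟩⟩

/-- Over a perfect field every finite subset of an extension lies in a smooth subalgebra. -/
theorem exists_smooth_subalgebra_containing [PerfectField K] (s : Finset L) :
    ∃ A : Subalgebra K L, Algebra.Smooth K A ∧ (↑s : Set L) ⊆ A := by
  classical
  let F := IntermediateField.adjoin K (↑s : Set L)
  let t : Finset F := s.attach.image fun x => ⟨x.1, IntermediateField.subset_adjoin K _ x.2⟩
  have ht : ∀ x : F, ∃ y ∈ Algebra.adjoin K (↑t : Set F), ∃ z ∈ Algebra.adjoin K (↑t : Set F), y / z = x := by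
    intro x
    obtain ⟨y, hy, z, hz, hxyz⟩ := IntermediateField.mem_adjoin_iff_div.1 x.2
    have himg : (Algebra.adjoin K (↑t : Set F)).map F.val = Algebra.adjoin K (↑s : Set L) := by
      rw [AlgHom.map_adjoin]
      congr 1
      ext w
      simp [t]
      exact fun h => IntermediateField.subset_adjoin K _ h
    rw [← himg] at hy hz
    obtain ⟨y', hy', rfl⟩ := hy
    obtain ⟨z', hz', rfl⟩ := hz
    exact ⟨y', hy', z', hz', F.val.injective ((map_div₀ F.val y' z').trans hxyz.symm)⟩
  haveI : Algebra.EssFiniteType K F := GenSmoothLib.essFiniteType_of_div t ht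
  obtain ⟨A, hA, hsub⟩ := exists_smooth_containing t ht
  haveI := hA
  refine ⟨A.map F.val, Algebra.Smooth.of_equiv (A.equivMapOfInjective F.val F.val.injective), fun x hx => ?_⟩
  exact ⟨⟨x, IntermediateField.subset_adjoin K _ hx⟩,
    hsub (by simp [t]; exact hx), rfl⟩

/-- Smooth subalgebras. -/
abbrev SmSub : Type u := {A : Subalgebra K L // Algebra.Smooth K A}

instance nonempty_smSub [PerfectField K] : Nonempty (SmSub K L) := by
  obtain ⟨A, hA, -⟩ := exists_smooth_subalgebra_containing K L ∅
  exact ⟨⟨A, hA⟩⟩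

instance directed_smSub [PerfectField K] : IsDirected (SmSub K L) (· ≤ ·) := ⟨fun A B => by
  classical
  haveI := A.2
  haveI := B.2
  obtain ⟨sa, hsa⟩ := (Subalgebra.fg_iff_finiteType A.1).2 inferInstance
  obtain ⟨sb, hsb⟩ := (Subalgebra.fg_iff_finiteType B.1).2 inferInstance
  obtain ⟨C, hC, hsub⟩ := exists_smooth_subalgebra_containing K L (sa ∪ sb)
  rw [Finset.coe_union, Set.union_subset_iff] at hsub
  refine ⟨⟨C, hC⟩, ?_, ?_⟩
  · show A.1 ≤ C
    rw [← hsa]
    exact Algebra.adjoin_le hsub.1
  · show B.1 ≤ C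
    rw [← hsb]
    exact Algebra.adjoin_le hsub.2⟩

/-- The diagram of smooth subalgebras. -/
def smDiag : SmSub K L ⥤ CommRingCat.{u} where
  obj B := CommRingCat.of B.1
  map {B C} h := CommRingCat.ofHom (Subalgebra.inclusion (leOfHom h)).toRingHom
  map_id B := rfl
  map_comp f g := rfl

/-- The cocone with vertex the whole field. -/
def smCocone : Cocone (smDiag K L) where
  pt := CommRingCat.of L
  ι :=
    { app := fun B => CommRingCat.ofHom B.1.val.toRingHom
      naturality := fun B C h => rfl }

/-- The field is the colimit of its smooth subalgebras. -/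
theorem smCocone_isColimit [PerfectField K] : Nonempty (IsColimit (smCocone K L)) := by
  haveI : ReflectsColimit (smDiag K L) (forget CommRingCat.{u}) := reflectsColimit_of_reflectsIsomorphisms _ _
  refine ⟨isColimitOfReflects (forget CommRingCat) (Types.FilteredColimit.isColimitOf _ _ (fun (x : L) => ?_) ?_)⟩
  · obtain ⟨A, hA, hsub⟩ := exists_smooth_subalgebra_containing K L {x}
    exact ⟨⟨A, hA⟩, ⟨x, hsub (by simp)⟩, rfl⟩
  · intro B C b c h
    obtain ⟨E, hB, hC⟩ := exists_ge_ge B C
    exact ⟨E, homOfLE hB, homOfLE hC, Subtype.ext h⟩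

/-- The system of spectra of smooth subalgebras. -/
def smSys : (SmSub K L)ᵒᵖ ⥤ Over (Spec (CommRingCat.of K)) where
  obj A := Over.mk (Spec.map (CommRingCat.ofHom (algebraMap K A.unop.1)))
  map {A B} h := Over.homMk (Spec.map ((smDiag K L).map h.unop)) (by
    show Spec.map _ ≫ Spec.map _ = Spec.map _
    rw [← Spec.map_comp]
    rfl)
  map_id A := Over.OverMorphism.ext (Spec.map_id _)
  map_comp f g := Over.OverMorphism.ext (by
    show Spec.map _ = Spec.map _ ≫ Spec.map _
    rw [← Spec.map_comp]
    rfl)

/-- The cone with vertex `Spec L`. -/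
def smCone : Cone (smSys K L ⋙ Over.forget _) where
  pt := Spec (CommRingCat.of L)
  π :=
    { app := fun A => Spec.map (CommRingCat.ofHom A.unop.1.val.toRingHom)
      naturality := fun A B h => (Scheme.Spec.mapCone (smCocone K L).op).π.naturality h }

/-- It is a limit. -/
def smLimit [PerfectField K] : IsLimit (smCone K L) :=
  IsLimit.ofIsoLimit (isLimitOfPreserves Scheme.Spec (smCocone_isColimit K L).some.op)
    (Cone.ext (Iso.refl _) fun j => (Category.id_comp _).symm)

theorem smCone_over (A : (SmSub K L)ᵒᵖ) :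
    (smCone K L).π.app A ≫ ((smSys K L).obj A).hom = Spec.map (CommRingCat.ofHom (algebraMap K L)) := by
  show Spec.map _ ≫ Spec.map _ = Spec.map _
  rw [← Spec.map_comp]
  rfl

theorem smooth_smSys (A : (SmSub K L)ᵒᵖ) : Smooth ((smSys K L).obj A).hom := by
  haveI := A.unop.2
  exact (HasRingHomProperty.Spec_iff (P := @Smooth)).mpr (RingHom.smooth_algebraMap.mpr inferInstance)

theorem isAffineHom_smSys {A B : (SmSub K L)ᵒᵖ} (h : A ⟶ B) : IsAffineHom ((smSys K L).map h).left :=
  inferInstanceAs (IsAffineHom (Spec.map _))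

end EtLimSmoothLib
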