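import Groth.Agent.S0642
import Groth.Agent.EtULABCLib.Good
import Groth.Agent.EtBcKilledLib.Comp

/-!
# Base change along universal homeomorphisms
-/

set_option autoImplicit false
set_option linter.all false
set_option backward.isDefEq.respectTransparency false
set_option backward.isDefEq.respectTransparency.types false
set_option synthInstance.maxHeartbeats 400000
set_option maxHeartbeats 1600000

universe u

open CategoryTheory CategoryTheory.Limits AlgebraicGeometry Opposite
open Groth.Agent

noncomputable section

namespace EtLimSmoothLib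

attribute [local instance] EtSliceLib.pullExact

variable {X S X' S' : Scheme.{u}} (f : X ⟶ S) (g : S' ⟶ S) (f' : X' ⟶ S') (g' : X' ⟶ X)
  (hc : IsPullback g' f' f g) [IsIntegralHom g] [UniversallyInjective g] [Surjective g]

include hc in
theorem isEquivalence_top : (EtCoh.pull g').IsEquivalence := by
  haveI : IsIntegralHom g' := MorphismProperty.of_isPullback hc.flip ‹_›
  haveI : UniversallyInjective g' := MorphismProperty.of_isPullback hc.flip ‹_›
  haveI : Surjective g' := MorphismProperty.of_isPullback hc.flip ‹_›
  exact Groth.Agent.S0642.pull_isEquivalence g'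

include hc in
/-- Degree zero. -/
theorem isIso_baseChange0_uh (F : EtCoh.Ab X) : IsIso (EtCoh.baseChange0 f g f' g' hc.w F) := by
  haveI := Groth.Agent.S0642.pull_isEquivalence g
  haveI := isEquivalence_top f g f' g' hc
  haveI : ∀ G, IsIso ((EtCoh.pullPushAdj g).counit.app G) := fun G => by
    haveI : (EtCoh.push g).IsEquivalence := (EtCoh.pullPushAdj g).isEquivalence_right_of_isEquivalence_left
    infer_instance
  haveI : IsIso ((EtCoh.pullPushAdj g').unit.app F) := inferInstance
  dsimp only [EtCoh.baseChange0]
  rw [Adjunction.homEquiv_counit]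
  infer_instance

include hc in
/-- Higher degrees. -/
theorem isIso_bcQ_uh (q : ℕ) (F : EtCoh.Ab X) : IsIso (EtBC.bcQ f g f' g' hc.w q F) := by
  haveI := Groth.Agent.S0642.pull_isEquivalence g
  haveI := isEquivalence_top f g f' g' hc
  haveI : (EtCoh.pull g').PreservesInjectiveObjects :=
    Functor.preservesInjectiveObjects_of_adjunction_of_preservesMonomorphisms (EtCoh.pull g').asEquivalence.symm.toAdjunction
  let T := FormalPunctLib.compExact (EtCechInjLib.derDelta (EtCoh.push f)) (EtCoh.pull g)
  let T' := EtBcQLib.precompDelta (EtCoh.pull g') (fun {_} h => EtRpushStalkLib.shortExact_pull g' h)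
    (EtCechInjLib.derDelta (EtCoh.push f'))
  have hT : T.Effaceable := FormalPunctLib.compExact_effaceable (EtBcKilledLib.derDelta_effaceable f) _
  have hT' : T'.Effaceable := fun E hE i =>
    haveI := hE
    haveI := (EtCoh.pull g').injective_obj E
    Functor.isZero_rightDerived_obj_injective_succ (EtCoh.push f') i ((EtCoh.pull g').obj E)
  let a : ∀ i, T.F i ⟶ T'.F i := fun i => EtBcQLib.bcNat f g f' g' hc.w i
  haveI : ∀ M, IsIso ((a 0).app M) := fun M =>
    (EtULABCLib.isIso_bcQ_zero_iff f g f' g' hc M).2 (isIso_baseChange0_uh f g f' g' hc M)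
  haveI : IsIso (a 0) := NatIso.isIso_of_isIso_app _
  have h := EtBcQLib.eq_of_zero hT a (fun i => (LocCohLib.DeltaFun.isoOfZero hT hT' (asIso (a 0)) i).hom)
    (fun {_} hS i => EtBcQLib.bcNat_delta f g f' g' hc.w hS _ i) (EtBcQLib.comm_isoOfZero hT hT' _) rfl q
  show IsIso ((a q).app F)
  rw [h]
  infer_instance

end EtLimSmoothLib
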