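import Groth.Agent.EtLimSmoothLib.Main
import Groth.Agent.EtLimSmoothLib.Field
import Groth.Agent.EtLimSmoothLib.UH
import Mathlib.FieldTheory.IsAlgClosed.AlgebraicClosure

/-!
# Base change along field extensions
-/

set_option autoImplicit false
set_option linter.all false
set_option backward.isDefEq.respectTransparency false
set_option backward.isDefEq.respectTransparency.types false
set_option synthInstance.maxHeartbeats 400000
set_option maxHeartbeats 1600000

universe u

open CategoryTheory CategoryTheory.Limits AlgebraicGeometry Opposite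
open Groth.Agent Groth.Agent.EtShLib DescSecLib EtContLib EtBcLimLib

noncomputable section

namespace EtLimSmoothLib

attribute [local instance] EtSliceLib.pullExact

/-- The spectrum of a purely inseparable extension is a universal homeomorphism. -/
theorem uh_of_purelyInseparable (K L : Type u) [Field K] [Field L] [Algebra K L] [IsPurelyInseparable K L] :
    IsIntegralHom (Spec.map (CommRingCat.ofHom (algebraMap K L))) ∧
      UniversallyInjective (Spec.map (CommRingCat.ofHom (algebraMap K L))) ∧
      Surjective (Spec.map (CommRingCat.ofHom (algebraMap K L))) := by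
  refine ⟨(IsIntegralHom.SpecMap_iff).2 (algebraMap_isIntegral_iff.2 inferInstance), ?_, ?_⟩
  · refine ((tfae_universallyInjective _).out 0 1).mpr ?_
    intro M iM g₁ g₂ h
    obtain ⟨a, rfl⟩ := Spec.map_surjective g₁
    obtain ⟨b, rfl⟩ := Spec.map_surjective g₂
    simp only [← Spec.map_comp] at h
    have h' := congrArg CommRingCat.Hom.hom (Spec.map_injective h)
    letI := iM
    exact congrArg Spec.map (CommRingCat.hom_ext (IsPurelyInseparable.injective_comp_algebraMap K L _ h'))
  · exact ⟨fun x => ⟨⟨⊥, Ideal.isPrime_bot⟩, Subsingleton.elim _ _⟩⟩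

/-- Base change along an extension of a perfect field. -/
theorem isIso_bcQ_perfect {K L : Type u} [Field K] [Field L] [Algebra K L] [PerfectField K]
    {T S T' S' : Scheme.{u}} (b : S ⟶ Spec (CommRingCat.of K)) (g : T ⟶ S) [QuasiCompact g] [QuasiSeparated g]
    (p : S' ⟶ S) (b' : S' ⟶ Spec (CommRingCat.of L))
    (hS : IsPullback p b' b (Spec.map (CommRingCat.ofHom (algebraMap K L))))
    (g' : T' ⟶ S') (p' : T' ⟶ T) (hT : IsPullback p' g' g p)
    (F : EtCoh.Ab T) (hF : EtAcyc.IsLTorsion (EtAcyc.primesInvertibleOn (Spec (CommRingCat.of K))) F) (q : ℕ) :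
    IsIso (EtBC.bcQ g p g' p' hT.w q F) := by
  let D : (SmSub K L)ᵒᵖ ⥤ Over S := smSys K L ⋙ Over.pullback b
  let c : Cone (D ⋙ Over.forget S) :=
    pbCone (smSys K L) (smCone K L) _ (smCone_over K L) b b' p hS
  have hc : IsLimit c := pbLimit (smSys K L) (smCone K L) (smLimit K L) _ (smCone_over K L) b b' p hS
  have hg : ∀ i, c.π.app i ≫ (D.obj i).hom = p := fun i => pullback.lift_snd _ _ _
  refine EtLimSmoothLib.isIso_bcQ D c hc p hg g g' p' hT (fun i => ?_) (fun i j h => ?_) F ?_ q
  · haveI := smooth_smSys K L i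
    exact MorphismProperty.pullback_snd _ _ (smooth_smSys K L i)
  · exact MorphismProperty.baseChange_map b ((smSys K L).map h) (isAffineHom_smSys K L h)
  · intro U s x
    obtain ⟨V, a, m, hv, hm, hs⟩ := hF U s x
    exact ⟨V, a, m, hv, ⟨hm.1, fun r hr hd => primesInvertibleOn_subset b (hm.2 r hr hd)⟩, hs⟩

/-- Base change along a field extension. -/
theorem isIso_bcQ_field {K L : Type u} [Field K] [Field L] (φ : K →+* L)
    {T S T' S' : Scheme.{u}} (b : S ⟶ Spec (CommRingCat.of K)) (g : T ⟶ S) [QuasiCompact g] [QuasiSeparated g]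
    (p : S' ⟶ S) (b' : S' ⟶ Spec (CommRingCat.of L)) (hS : IsPullback p b' b (Spec.map (CommRingCat.ofHom φ)))
    (g' : T' ⟶ S') (p' : T' ⟶ T) (hT : IsPullback p' g' g p)
    (F : EtCoh.Ab T) (hF' : EtAcyc.IsLTorsion (EtAcyc.primesInvertibleOn (Spec (CommRingCat.of K))) F) (q : ℕ) :
    IsIso (EtBC.bcQ g p g' p' hT.w q F) := by
  let : Algebra K L := φ.toAlgebra
  let Ω := AlgebraicClosure L
  let Kp := perfectClosure K Ω
  let Lp := perfectClosure L Ω
  haveI : PerfectField Kp := perfectClosure.perfectField K Ω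
  have hle : ∀ x : Ω, x ∈ Kp → x ∈ Lp := fun x hx => by
    obtain ⟨n, a, ha⟩ := mem_perfectClosure_iff.1 hx
    refine mem_perfectClosure_iff.2 ⟨n, φ a, ?_⟩
    rw [show ringExpChar L = ringExpChar K from
      ringExpChar.eq L (ringExpChar K) (h := expChar_of_injective_ringHom φ.injective _)]
    exact (IsScalarTower.algebraMap_apply K L Ω a).symm.trans ha
  let ψ : Kp →+* Lp :=
    { toFun := fun x => ⟨x.1, hle _ x.2⟩, map_one' := rfl, map_mul' := fun _ _ => rfl, map_zero' := rfl,
      map_add' := fun _ _ => rfl }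
  let : Algebra Kp Lp := ψ.toAlgebra
  obtain ⟨a1, a2, a3⟩ := uh_of_purelyInseparable K Kp
  obtain ⟨c1, c2, c3⟩ := uh_of_purelyInseparable L Lp
  haveI := a1; haveI := a2; haveI := a3; haveI := c1; haveI := c2; haveI := c3
  let a := Spec.map (CommRingCat.ofHom (algebraMap K Kp))
  let cc := Spec.map (CommRingCat.ofHom (algebraMap L Lp))
  let sψ := Spec.map (CommRingCat.ofHom (algebraMap Kp Lp))
  have hcomm : cc ≫ Spec.map (CommRingCat.ofHom φ) = sψ ≫ a := by
    simp only [cc, sψ, a, ← Spec.map_comp]
    refine congrArg Spec.map ?_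
    ext x
    exact (IsScalarTower.algebraMap_apply K L Ω x).symm
  -- over the perfect closure of `K`
  let π : pullback b a ⟶ S := pullback.fst b a
  have hSK : IsPullback π (pullback.snd b a) b a := IsPullback.of_hasPullback b a
  haveI : IsIntegralHom π := MorphismProperty.pullback_fst _ _ a1
  haveI : UniversallyInjective π := MorphismProperty.pullback_fst _ _ a2
  haveI : Surjective π := MorphismProperty.pullback_fst _ _ a3
  have hTK : IsPullback (pullback.fst g π) (pullback.snd g π) g π := IsPullback.of_hasPullback g π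
  -- over the perfect closure of `L`
  let i : pullback b' cc ⟶ S' := pullback.fst b' cc
  haveI : IsIntegralHom i := MorphismProperty.pullback_fst _ _ c1
  haveI : UniversallyInjective i := MorphismProperty.pullback_fst _ _ c2
  haveI : Surjective i := MorphismProperty.pullback_fst _ _ c3
  have hT'' : IsPullback (pullback.fst g' i) (pullback.snd g' i) g' i := IsPullback.of_hasPullback g' i
  have hout : IsPullback (i ≫ p) (pullback.snd b' cc) b (sψ ≫ a) := by
    rw [← hcomm]
    exact (IsPullback.of_hasPullback b' cc).paste_horiz hS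
  let r : pullback b' cc ⟶ pullback b a :=
    pullback.lift (i ≫ p) (pullback.snd b' cc ≫ sψ) (by rw [hout.w, Category.assoc])
  have hr : r ≫ π = i ≫ p := pullback.lift_fst _ _ _
  have hrsq : IsPullback r (pullback.snd b' cc) (pullback.snd b a) sψ :=
    IsPullback.of_right (hr ▸ hout) (pullback.lift_snd _ _ _) hSK
  let e'' : pullback g' i ⟶ T := pullback.fst g' i ≫ p'
  have houtT : IsPullback e'' (pullback.snd g' i) g (i ≫ p) := hT''.paste_horiz hT
  let r' : pullback g' i ⟶ pullback g π :=
    pullback.lift e'' (pullback.snd g' i ≫ r) (by rw [houtT.w, Category.assoc, hr])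
  have hr' : r' ≫ pullback.fst g π = e'' := pullback.lift_fst _ _ _
  have hr'sq : IsPullback r' (pullback.snd g' i) (pullback.snd g π) r :=
    IsPullback.of_right (by rw [hr', hr]; exact houtT) (pullback.lift_snd _ _ _) hTK
  haveI : QuasiCompact (pullback.snd g π) := inferInstance
  haveI : QuasiSeparated (pullback.snd g π) := inferInstance
  let FK := (EtCoh.pull (pullback.fst g π)).obj F
  have hFK : EtAcyc.IsLTorsion (EtAcyc.primesInvertibleOn (Spec (CommRingCat.of Kp))) FK := by
    intro U s x
    obtain ⟨V, o, m, hv, hm, hs⟩ := EtAcycLib.isLTorsion_pull_any (pullback.fst g π) hF' U s x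
    exact ⟨V, o, m, hv, ⟨hm.1, fun l hl hd => primesInvertibleOn_subset a (hm.2 l hl hd)⟩, hs⟩
  have hmid : ∀ n, IsIso (EtBC.bcQ (pullback.snd g π) r (pullback.snd g' i) r' hr'sq.w n FK) := fun n =>
    isIso_bcQ_perfect (pullback.snd b a) (pullback.snd g π) r (pullback.snd b' cc) hrsq (pullback.snd g' i) r'
      hr'sq FK hFK n
  haveI := Groth.Agent.S0642.pull_isEquivalence i
  have h1 : IsIso (EtBC.bcQ g π (pullback.snd g π) (pullback.fst g π) hTK.w q F) :=
    isIso_bcQ_uh g π _ _ hTK q F
  haveI := h1
  have hOut : IsIso (EtBC.bcQ g (i ≫ p) (pullback.snd g' i) e'' houtT.w q F) :=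
    (EtBcQLib.isIso_outer_iff π g (pullback.snd g π) (pullback.fst g π) hTK r (pullback.snd g' i) r' hr'sq
      (i ≫ p) hr e'' hr' houtT q F (hmid q)).2 inferInstance
  haveI := (EtBcQLib.isIso_outer_iff p g g' p' hT i (pullback.snd g' i) (pullback.fst g' i) hT''
      (i ≫ p) rfl e'' rfl houtT q F (isIso_bcQ_uh g' i _ _ hT'' q _)).1 hOut
  exact isIso_of_reflects_iso _ (EtCoh.pull i)

end EtLimSmoothLib
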