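import Groth.Agent.EtSmAcycLib.Main
import Groth.Agent.EtULABCLib.Main

/-!
# Base change along limits of smooth morphisms
-/

set_option autoImplicit false
set_option linter.all false
set_option backward.isDefEq.respectTransparency false
set_option backward.isDefEq.respectTransparency.types false
set_option synthInstance.maxHeartbeats 400000
set_option maxHeartbeats 1600000

universe u

open CategoryTheory CategoryTheory.Limits AlgebraicGeometry Opposite
open Groth.Agent Groth.Agent.EtShLib DescSecLib EtContLib EtBcLimLib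

noncomputable section

namespace EtLimSmoothLib

attribute [local instance] EtSliceLib.pullExact

theorem primesInvertibleOn_subset {X Y : Scheme.{u}} (g : X ⟶ Y) :
    EtAcyc.primesInvertibleOn Y ⊆ EtAcyc.primesInvertibleOn X := fun ℓ hℓ => by
  refine ⟨hℓ.1, fun x h => hℓ.2 (g.base x) ?_⟩
  apply (g.residueFieldMap x).hom.injective
  rw [map_natCast, map_zero]
  exact h

/-- Smooth morphisms are universally locally acyclic. -/
theorem isULocAcyclic_of_smooth {X Y : Scheme.{u}} (g : X ⟶ Y) [Smooth g] :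
    EtAcyc.IsULocAcyclic g (EtAcyc.primesInvertibleOn Y) := fun n X₁ Y₁ g₁ b' b h => by
  haveI : Smooth g₁ := MorphismProperty.of_isPullback h ‹Smooth g›
  exact EtSmAcycLib.isLocAcyclicN_mono g₁
    ((primesInvertibleOn_subset b).trans (primesInvertibleOn_subset g₁)) n (EtSmAcycLib.isLocAcyclic_of_smooth g₁ n)

theorem isLTorsion_of_invertibleOn {T : Scheme.{u}} (S : Scheme.{u}) {F : EtCoh.Ab T}
    (hF : EtPBC.IsTorsionInvertibleOn S F) (hS : Nonempty S) : EtAcyc.IsLTorsion (EtAcyc.primesInvertibleOn S) F := by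
  intro U s x
  obtain ⟨V, g, n, hv, hn, hns⟩ := hF U s x
  have key : ∀ y : S, (n : S.residueField y) ≠ 0 := fun y => by
    have h := (hn.map (S.presheaf.Γgerm y).hom).map (IsLocalRing.residue (S.presheaf.stalk y))
    rw [map_natCast, map_natCast] at h
    exact h.ne_zero
  refine ⟨V, g, n, hv, ⟨Nat.pos_of_ne_zero fun h0 => key (Classical.choice hS) (by rw [h0, Nat.cast_zero]),
    fun p hp hd => ⟨hp, fun y h => key y ?_⟩⟩, hns⟩
  obtain ⟨c, rfl⟩ := hd
  rw [Nat.cast_mul, h, zero_mul]

/-- Torsion of the pushforward along the identity. -/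
theorem isLTorsion_push_id {X : Scheme.{u}} {L : Set ℕ} {F : EtCoh.Ab X} (hF : EtAcyc.IsLTorsion L F) :
    EtAcyc.IsLTorsion L ((EtCoh.push (𝟙 X)).obj F) := by
  exact EtAcycLib.isLTorsion_of_epi hF ((DescSecLib.etPid X).hom.app F)

section Lim

variable {ι : Type u} [Preorder ι] [IsDirected ι (· ≤ ·)] [Nonempty ι]
  {S : Scheme.{u}} (D : ιᵒᵖ ⥤ Over S) (c : Cone (D ⋙ Over.forget S)) (hc : IsLimit c) (g : c.pt ⟶ S)
  (hg : ∀ i, c.π.app i ≫ (D.obj i).hom = g)
  {X X' : Scheme.{u}} (f : X ⟶ S) (f' : X' ⟶ c.pt) (g' : X' ⟶ X) (hsq : IsPullback g' f' f g)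

/-- The pulled back system. -/
abbrev pbD : ιᵒᵖ ⥤ Scheme.{u} := D ⋙ Over.pullback f ⋙ Over.forget X

/-- The structure maps. -/
def fN : D ⋙ Over.forget S ⟶ (Functor.const ιᵒᵖ).obj S where
  app i := (D.obj i).hom
  naturality i j a := (Over.w (D.map a)).trans (Category.comp_id _).symm

/-- The first projections. -/
def hN : pbD D f ⟶ D ⋙ Over.forget S where
  app i := pullback.fst (D.obj i).hom f
  naturality i j a := pullback.lift_fst _ _ _

/-- The second projections. -/
def eN : pbD D f ⟶ (Functor.const ιᵒᵖ).obj X where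
  app i := pullback.snd (D.obj i).hom f
  naturality i j a := (pullback.lift_snd _ _ _).trans (Category.comp_id _).symm

include hg hsq in
theorem cond (i : ιᵒᵖ) : (f' ≫ c.π.app i) ≫ (D.obj i).hom = g' ≫ f := by
  rw [Category.assoc, hg, hsq.w]

/-- The cone over the pulled back system. -/
def pbCone : Cone (pbD D f) where
  pt := X'
  π :=
    { app := fun i => pullback.lift (f' ≫ c.π.app i) g' (cond D c g hg f f' g' hsq i)
      naturality := fun i j a => by
        refine (Category.id_comp _).trans (pullback.hom_ext ?_ ?_)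
        · rw [pullback.lift_fst, Category.assoc]
          refine Eq.trans ?_ (congrArg (pullback.lift _ g' _ ≫ ·) ((hN D f).naturality a).symm)
          show _ = pullback.lift _ g' _ ≫ pullback.fst _ _ ≫ (D.map a).left
          rw [pullback.lift_fst_assoc, Category.assoc]
          exact congrArg (f' ≫ ·) (c.w a).symm
        · rw [pullback.lift_snd, Category.assoc]
          refine Eq.trans ?_ (congrArg (pullback.lift _ g' _ ≫ ·) ((eN D f).naturality a).symm)
          show _ = pullback.lift _ g' _ ≫ pullback.snd _ _ ≫ 𝟙 X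
          rw [pullback.lift_snd_assoc, Category.comp_id] }

theorem snd_eq (s : Cone (pbD D f)) (i j : ιᵒᵖ) :
    s.π.app i ≫ pullback.snd (D.obj i).hom f = s.π.app j ≫ pullback.snd (D.obj j).hom f := by
  have key : ∀ {k l : ιᵒᵖ} (a : k ⟶ l), s.π.app k ≫ (eN D f).app k = s.π.app l ≫ (eN D f).app l := fun {k l} a => by
    rw [← s.w a, Category.assoc, (eN D f).naturality a]
    exact congrArg (s.π.app k ≫ ·) (Category.comp_id _).symm
  obtain ⟨k, hik, hjk⟩ := exists_ge_ge i.unop j.unop
  exact (key (homOfLE hik).op).symm.trans (key (homOfLE hjk).op)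

/-- The cone of first projections. -/
def fstCone (s : Cone (pbD D f)) : Cone (D ⋙ Over.forget S) where
  pt := s.pt
  π :=
    { app := fun i => s.π.app i ≫ (hN D f).app i
      naturality := fun i j a => by
        refine (Category.id_comp _).trans ?_
        rw [← s.w a, Category.assoc, (hN D f).naturality a, Category.assoc] }

/-- The pulled back cone is a limit. -/
def pbLimit : IsLimit (pbCone D c g hg f f' g' hsq) :=
  let i₀ : ιᵒᵖ := op (Classical.arbitrary ι)
  { lift := fun s => hsq.lift (s.π.app i₀ ≫ pullback.snd (D.obj i₀).hom f) (hc.lift (fstCone D f s)) (by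
      rw [← hg i₀, ← Category.assoc (hc.lift _), hc.fac]
      show _ = (s.π.app i₀ ≫ pullback.fst _ _) ≫ _
      rw [Category.assoc, Category.assoc, pullback.condition])
    fac := fun s j => by
      refine pullback.hom_ext ?_ ?_
      · show (_ ≫ pullback.lift _ g' _) ≫ _ = _
        rw [Category.assoc, pullback.lift_fst, ← Category.assoc, hsq.lift_snd, hc.fac]
        rfl
      · show (_ ≫ pullback.lift _ g' _) ≫ _ = _
        rw [Category.assoc, pullback.lift_snd, hsq.lift_fst]
        exact snd_eq D f s i₀ j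
    uniq := fun s m hm => by
      refine hsq.hom_ext ?_ ?_
      · rw [hsq.lift_fst, ← hm i₀, Category.assoc]
        exact (congrArg (m ≫ ·) (pullback.lift_snd _ _ _)).symm
      · rw [hsq.lift_snd]
        refine hc.hom_ext fun j => ?_
        rw [hc.fac, Category.assoc]
        show m ≫ f' ≫ c.π.app j = s.π.app j ≫ pullback.fst _ _
        rw [← hm j, Category.assoc]
        exact (congrArg (m ≫ ·) (pullback.lift_fst _ _ _)).symm }

include hc hg in
/-- **Base change along a limit of smooth morphisms.** -/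
theorem isIso_bcQ [QuasiCompact f] [QuasiSeparated f] (hsm : ∀ i, Smooth (D.obj i).hom)
    (haff : ∀ ⦃a b : ιᵒᵖ⦄ (h : a ⟶ b), IsAffineHom (D.map h).left)
    (F : EtCoh.Ab X) (hF : EtAcyc.IsLTorsion (EtAcyc.primesInvertibleOn S) F) (q : ℕ) :
    IsIso (EtBC.bcQ f g f' g' hsq.w q F) := by
  haveI : IsCofiltered ιᵒᵖ := inferInstance
  haveI : CategoryTheory.IsConnected ιᵒᵖ := IsCofiltered.isConnected _
  haveI : CategoryTheory.IsConnected ιᵒᵖᵒᵖ := IsFiltered.isConnected _
  haveI : ∀ (a b : ιᵒᵖ) (m : a ⟶ b), IsAffineHom ((D ⋙ Over.forget S).map m) := fun a b m => haff m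
  haveI : ∀ (a b : ιᵒᵖ) (m : a ⟶ b), IsAffineHom ((pbD D f).map m) := fun a b m =>
    MorphismProperty.baseChange_map f (D.map m) (haff m)
  haveI : ∀ (Z : Scheme.{u}) (a b : ιᵒᵖ) (m : a ⟶ b), IsAffineHom (((Functor.const ιᵒᵖ).obj Z).map m) :=
    fun Z a b m => inferInstanceAs (IsAffineHom (𝟙 Z))
  let gN : (Functor.const ιᵒᵖ).obj X ⟶ (Functor.const ιᵒᵖ).obj S := (Functor.const _).map f
  haveI : ∀ i, QuasiCompact (gN.app i) := fun i => inferInstanceAs (QuasiCompact f)
  haveI : ∀ i, QuasiSeparated (gN.app i) := fun i => inferInstanceAs (QuasiSeparated f)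
  haveI : ∀ i, IsOpenImmersion ((constCone ιᵒᵖ X).π.app i) := fun i => inferInstanceAs (IsOpenImmersion (𝟙 X))
  let K : ιᵒᵖᵒᵖ ⥤ EtCoh.Ab (constCone ιᵒᵖ X).pt := (Functor.const _).obj F
  let cc : Cocone K := constCocone ιᵒᵖᵒᵖ F
  let Rs := EtULABCLib.coneSys (constCone ιᵒᵖ X) K
  have sq : ∀ i : ιᵒᵖ, IsPullback ((eN D f).app i) ((hN D f).app i) (gN.app i) ((fN D).app i) :=
    fun i => (IsPullback.of_hasPullback (D.obj i).hom f).flip
  have hstage : ∀ i, IsIso (EtBC.bcQ (gN.app i) ((fN D).app i) ((hN D f).app i) ((eN D f).app i) (sq i).w q (Rs.F i)) := by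
    intro i
    haveI := hsm i
    exact EtULABCLib.isIso_bcQ_of_uloc (n := q) (gN.app i) ((fN D).app i) ((hN D f).app i) ((eN D f).app i) (sq i)
      (isULocAcyclic_of_smooth (D.obj i).hom q) (Rs.F i) (EtLimSmoothLib.isLTorsion_push_id hF) q le_rfl
  exact isIso_bcQ_limit (fN D) gN (hN D f) (eN D f) sq hc (isLimitConstCone _ S) (isLimitConstCone _ X)
    (pbLimit D c hc g hg f f' g' hsq) g f f' g' (fun i => (hg i).trans (Category.comp_id g).symm)
    (fun i => (Category.id_comp f).trans (Category.comp_id f).symm)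
    (fun i => pullback.lift_fst _ _ _)
    (fun i => (pullback.lift_snd _ _ _).trans (Category.comp_id g').symm) hsq Rs F
    (EtULABCLib.coneψ (cn := constCone ιᵒᵖ X) (K := K) cc) (fun {k j} a => EtULABCLib.coneψ_compat (cn := constCone ιᵒᵖ X) (K := K) cc a)
    (EtULABCLib.stkLim_coneSys (cn := constCone ιᵒᵖ X) (K := K) cc (isColimitConstCocone _ F)) q hstage

end Lim

end EtLimSmoothLib
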