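import Groth.Agent.EtLimSmoothLib.Acyclic
import Groth.Agent.LocAcycPointLib.Main
import Groth.Agent.S0761
import Groth.Agent.S0663

/-!
# Composition of locally acyclic morphisms, for constant coefficients
-/

set_option autoImplicit false
set_option linter.all false
set_option backward.isDefEq.respectTransparency false
set_option backward.isDefEq.respectTransparency.types false
set_option synthInstance.maxHeartbeats 400000
set_option maxHeartbeats 2000000

universe u

open CategoryTheory CategoryTheory.Limits CategoryTheory.Abelian AlgebraicGeometry Opposite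
open Groth.Agent Groth.Agent.EtShLib DescSecLib
open scoped TensorProduct
open LocAcycPointLib (primesOf)

noncomputable section

namespace EtLimSmoothLib

attribute [local instance] EtSliceLib.pullExact

open LocAcycPointLib in
/-- Vanishing for a modulus follows from its prime divisors. -/
theorem subsingleton_H_of_primes {P : Scheme.{u}} (q : ℕ) :
    ∀ (n : ℕ), 0 < n → (∀ ℓ : ℕ, ℓ.Prime → ℓ ∣ n → Subsingleton (EtCoh.H P (EtCoh.const P (ZMod ℓ)) q)) →
      Subsingleton (EtCoh.H P (EtCoh.const P (ZMod n)) q) := by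
  intro n
  induction n using Nat.strong_induction_on with
  | _ n ih =>
    intro hn h
    by_cases h1 : n = 1
    · subst h1
      refine ⟨fun x y => ?_⟩
      have h0 : 𝟙 (EtCoh.const P (ZMod 1)) = 0 := by
        rw [← one_smul ℕ (𝟙 (EtCoh.const P (ZMod 1)))]
        exact EtStrictAcycLib.nsmul_id_const 1
      rw [← Ext.comp_mk₀_id x, ← Ext.comp_mk₀_id y, h0, Ext.mk₀_zero, Ext.comp_zero, Ext.comp_zero]
    · have hp : n.minFac.Prime := Nat.minFac_prime h1
      obtain ⟨m, hm⟩ := n.minFac_dvd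
      have hm0 : 0 < m := Nat.pos_of_ne_zero fun h0 => by rw [h0, mul_zero] at hm; omega
      have hlt : m < n := by
        rw [hm]
        exact lt_mul_of_one_lt_left hm0 hp.one_lt
      haveI : NeZero n := ⟨by omega⟩
      haveI := h n.minFac hp n.minFac_dvd
      haveI := ih m hlt hm0 fun ℓ hℓ hd => h ℓ hℓ (hd.trans (Dvd.intro_left n.minFac hm.symm))
      refine subsingleton_of_forall_eq 0 fun x => ?_
      obtain ⟨a, rfl⟩ := Ext.covariant_sequence_exact₂ _ (seq_shortExact.{u} n.minFac m n hm P) x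
        (Subsingleton.elim (α := EtCoh.H P (EtCoh.const P (ZMod m)) q) _ _)
      rw [show a = 0 from Subsingleton.elim (α := EtCoh.H P (EtCoh.const P (ZMod n.minFac)) q) _ _, Ext.zero_comp]

/-- Strict localisations of an open subscheme. -/
theorem acyclicN_at_of_open {T X Z : Scheme.{u}} (η : T ⟶ X) [IsOpenImmersion η] (f : X ⟶ Z) {L : Set ℕ} {n : ℕ}
    (hT : EtAcyc.IsLocAcyclicN (η ≫ f) L n) (t : T)
    (RY RX : Type u) [CommRing RY] [CommRing RX] [IsLocalRing RY] [IsLocalRing RX]
    [Algebra (Z.presheaf.stalk (f.base (η.base t))) RY]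
    [IsLocalHom (algebraMap (Z.presheaf.stalk (f.base (η.base t))) RY)]
    [Hensel.IsStrictHenselization (Z.presheaf.stalk (f.base (η.base t))) RY]
    [Algebra (X.presheaf.stalk (η.base t)) RX] [IsLocalHom (algebraMap (X.presheaf.stalk (η.base t)) RX)]
    [Hensel.IsStrictHenselization (X.presheaf.stalk (η.base t)) RX]
    [Algebra RY RX] [IsLocalHom (algebraMap RY RX)]
    (hc : (algebraMap RY RX).comp (algebraMap (Z.presheaf.stalk (f.base (η.base t))) RY) =
      (algebraMap (X.presheaf.stalk (η.base t)) RX).comp (f.stalkMap (η.base t)).hom) :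
    EtAcyc.IsAcyclicN (Spec.map (CommRingCat.ofHom (algebraMap RY RX))) L n := by
  let A := T.presheaf.stalk t
  let B := X.presheaf.stalk (η.base t)
  letI : Algebra A B := (inv (η.stalkMap t)).hom.toAlgebra
  haveI : Algebra.WeaklyEtale A B := by
    haveI : Algebra.Etale A B := RingHom.etale_algebraMap.1
      (RingHom.Etale.of_bijective ((ConcreteCategory.isIso_iff_bijective (inv (η.stalkMap t))).1 inferInstance))
    infer_instance
  letI : Algebra A RX := ((algebraMap B RX).comp (inv (η.stalkMap t)).hom).toAlgebra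
  haveI : IsScalarTower A B RX := IsScalarTower.of_algebraMap_eq fun _ => rfl
  haveI : IsLocalHom (algebraMap A RX) := by
    haveI : IsLocalHom (inv (η.stalkMap t)).hom := inferInstance
    exact RingHom.isLocalHom_comp (algebraMap B RX) (inv (η.stalkMap t)).hom
  haveI : Hensel.IsStrictHenselization A RX := Groth.Agent.WEtSHLib.isStrictHenselization_of_weaklyEtale A B RX
  refine EtAcycFibLib.onStrictLocalizations_apply (η ≫ f) _ hT t (f.base (η.base t)) rfl RY RX ?_
  show Spec.map _ ≫ Spec.map (CommRingCat.ofHom (algebraMap _ RY)) ≫ _ =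
    (Spec.map (CommRingCat.ofHom ((algebraMap B RX).comp (inv (η.stalkMap t)).hom)) ≫ T.fromSpecStalk t) ≫ η ≫ f
  rw [← Spec.map_comp_assoc, ← CommRingCat.ofHom_comp, hc, CommRingCat.ofHom_comp, CommRingCat.ofHom_comp,
    Spec.map_comp, Spec.map_comp, CommRingCat.ofHom_hom, CommRingCat.ofHom_hom, Category.assoc, Category.assoc,
    Category.assoc, Scheme.SpecMap_stalkMap_fromSpecStalk, ← Scheme.SpecMap_stalkMap_fromSpecStalk_assoc (f := η),
    ← Spec.map_comp_assoc (η.stalkMap t) (inv (η.stalkMap t)), IsIso.hom_inv_id, Spec.map_id, Category.id_comp]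

/-- A scheme over a separably closed field that is acyclic for the primes of a modulus has the cohomology of a point. -/
theorem point_of_acyclicScheme {Ω₀ : Type u} [Field Ω₀] [IsSepClosed Ω₀] {P : Scheme.{u}}
    (p : P ⟶ Spec (CommRingCat.of Ω₀)) [QuasiCompact p] {n : ℕ} (hn : 1 < n) (q : ℕ)
    (hP : EtAcyc.IsAcyclicSchemeN (primesOf n) (q + 1) P)
    [PreservesFiniteLimits (EtCoh.pull p)] :
    Subsingleton (EtCoh.H P (EtCoh.const P (ZMod n)) (q + 1)) ∧
      Function.Bijective (EtCore.Hpull p (EtCoh.const (Spec (CommRingCat.of Ω₀)) (ZMod n)) 0) := by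
  obtain ⟨hne, hconn, hH⟩ := hP
  haveI : NeZero n := ⟨by omega⟩
  refine ⟨subsingleton_H_of_primes (q + 1) n (by omega) fun ℓ hℓ hd => hH ℓ hℓ ⟨hℓ, hd⟩ (q + 1) (by omega) le_rfl,
    ?_⟩
  have hsurj : Function.Surjective p.base := fun y => ⟨hne.some, Subsingleton.elim _ _⟩
  refine ⟨CovDevLib.injective_Hpull_zero p hsurj _, EtAcycFibLib.surjective_Hpull_zero p hsurj (fun y => ?_) ?_ _⟩
  · rw [show p.base ⁻¹' {y} = Set.univ from Set.eq_univ_of_forall fun x => Subsingleton.elim _ _]
    exact isPreconnected_univ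
  · have hz : LocAcycPointLib.ZeroDim (Spec (CommRingCat.of Ω₀)) := fun a b _ => Subsingleton.elim _ _
    have h := (Groth.Agent.S3471.result p _ (LocAcycPointLib.exists_prime hn) 0).1
      (LocAcycPointLib.isLocAcyclicN_of_zeroDim p hz (LocAcycPointLib.exists_prime hn) 0)
    intro x RY RX _ _ _ _ _ _ _ _ _ _ _ _ hc y
    exact (EtAcycFibLib.isPreconnected_fibre _ (h x RY RX hc) y).1

/-- Transport of the cohomology of a point. -/
theorem point_transport {A B W : Scheme.{u}} {Ω₀ : Type u} [Field Ω₀] (p : B ⟶ Spec (CommRingCat.of Ω₀))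
    (m : A ⟶ B) (e : A ≅ W) (n j : ℕ)
    [PreservesFiniteLimits (EtCoh.pull p)] [PreservesFiniteLimits (EtCoh.pull m)]
    (hp : Function.Bijective (EtCore.Hpull p (EtCoh.const (Spec (CommRingCat.of Ω₀)) (ZMod n)) 0))
    (hm0 : Function.Bijective (EtCore.Hpull m (EtCoh.const B (ZMod n)) 0))
    (hm : Function.Bijective (EtCore.Hpull m (EtCoh.const B (ZMod n)) j))
    (hB : Subsingleton (EtCoh.H B (EtCoh.const B (ZMod n)) j)) :
    Subsingleton (EtCoh.H W (EtCoh.const W (ZMod n)) j) ∧
      Nonempty (EtCoh.H W (EtCoh.const W (ZMod n)) 0 ≃+ ZMod n) := by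
  obtain ⟨E⟩ := LocAcycBCLib.nonempty_H_const_equiv e n j
  obtain ⟨E0⟩ := LocAcycBCLib.nonempty_H_const_equiv e n 0
  obtain ⟨c⟩ := Groth.Agent.S0663.nonempty_H_zero_const (Y := Spec (CommRingCat.of Ω₀)) (ZMod n)
  refine ⟨?_, ?_⟩
  · haveI := hB
    haveI := (EtStrictAcycLib.bijective_toConst m _ j hm).2.subsingleton
    exact E.symm.injective.subsingleton
  · let f1 : EtCoh.H (Spec (CommRingCat.of Ω₀)) (EtCoh.const _ (ZMod n)) 0 →+ EtCoh.H B (EtCoh.const B (ZMod n)) 0 :=
      AddMonoidHom.mk' (fun x => (EtCore.Hpull p _ 0 x).comp (Ext.mk₀ (EtCore.pullConst p (ZMod n)).hom) (add_zero 0))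
        (fun x y => by rw [map_add, Ext.add_comp])
    let f2 : EtCoh.H B (EtCoh.const B (ZMod n)) 0 →+ EtCoh.H A (EtCoh.const A (ZMod n)) 0 :=
      AddMonoidHom.mk' (fun x => (EtCore.Hpull m _ 0 x).comp (Ext.mk₀ (EtCore.pullConst m (ZMod n)).hom) (add_zero 0))
        (fun x y => by rw [map_add, Ext.add_comp])
    exact ⟨E0.symm.trans ((AddEquiv.ofBijective f2 (EtStrictAcycLib.bijective_toConst m _ 0 hm0)).symm.trans
      ((AddEquiv.ofBijective f1 (EtStrictAcycLib.bijective_toConst p _ 0 hp)).symm.trans c))⟩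

/-- The conclusion for a single strict localisation. -/
theorem point_of_acyclic {RZ RX : Type u} [CommRing RZ] [CommRing RX] [Algebra RZ RX] {n : ℕ} (hn : 1 < n)
    (hA : ∀ k, EtAcyc.IsAcyclicN (Spec.map (CommRingCat.ofHom (algebraMap RZ RX))) (primesOf n) k)
    (hu : IsUnit (n : RZ)) (Ω : Type u) [Field Ω] [IsSepClosed Ω] [Algebra RZ Ω] (q : ℕ) :
    Subsingleton (EtCoh.H (Spec (CommRingCat.of (EtRest.vcRing RZ RX Ω)))
        (EtCoh.const (Spec (CommRingCat.of (EtRest.vcRing RZ RX Ω))) (ZMod n)) (q + 1)) ∧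
      Nonempty (EtCoh.H (Spec (CommRingCat.of (EtRest.vcRing RZ RX Ω)))
        (EtCoh.const (Spec (CommRingCat.of (EtRest.vcRing RZ RX Ω))) (ZMod n)) 0 ≃+ ZMod n) := by
  let S := Spec (CommRingCat.of RZ)
  let h := Spec.map (CommRingCat.ofHom (algebraMap RZ RX))
  let τ : Spec (CommRingCat.of Ω) ⟶ S := Spec.map (CommRingCat.ofHom (algebraMap RZ Ω))
  obtain ⟨⟨y, ψ⟩, hψ⟩ := (Scheme.SpecToEquivOfField Ω S).symm.surjective τ
  change Spec.map ψ ≫ S.fromSpecResidueField y = τ at hψ
  letI : Algebra (S.residueField y) Ω := ψ.hom.toAlgebra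
  let Ω₀ := SeparableClosure (S.residueField y)
  let σ : Ω₀ →ₐ[S.residueField y] Ω := IsSepClosed.lift
  let t₀ := EtAcyc.geomPt S y Ω₀
  have hτ : Spec.map (CommRingCat.ofHom σ.toRingHom) ≫ t₀ = τ := by
    rw [← hψ]
    show Spec.map _ ≫ Spec.map _ ≫ S.fromSpecResidueField y = _
    rw [← Spec.map_comp_assoc]
    refine congrArg (fun m => Spec.map m ≫ S.fromSpecResidueField y) (CommRingCat.hom_ext (RingHom.ext fun z => ?_))
    exact σ.commutes z
  let P₀ := pullback h t₀
  let p := pullback.snd h t₀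
  have hP : EtAcyc.IsAcyclicSchemeN (primesOf n) (q + 1) P₀ :=
    Groth.Agent.S8534.result h _ (LocAcycPointLib.exists_prime hn) (q + 1) (hA (q + 1)) y Ω₀
  obtain ⟨hq, h0⟩ := point_of_acyclicScheme p hn q hP
  let m := pullback.fst p (Spec.map (CommRingCat.ofHom σ.toRingHom))
  have hnL : EtAcyc.PrimesIn (EtAcyc.primesInvertibleOn (Spec (CommRingCat.of Ω₀))) n := by
    refine ⟨by omega, fun l hl hd => ?_⟩
    rw [primesInvertibleOn_field]
    refine ⟨hl, fun hc => ?_⟩
    have h1 : (n : Ω₀) = 0 := by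
      obtain ⟨c, rfl⟩ := hd
      rw [Nat.cast_mul, hc, ringChar.Nat.cast_ringChar, zero_mul]
    have h2 := congrArg σ h1
    rw [map_natCast, map_zero] at h2
    exact (hu.map (algebraMap RZ Ω)).ne_zero (by rw [map_natCast]; exact h2)
  have hbij : ∀ j, j ≤ q + 1 → Function.Bijective (EtCore.Hpull m (EtCoh.const P₀ (ZMod n)) j) := fun j hj =>
      ((compN_baseChange σ.toRingHom p m (pullback.snd p _) (IsPullback.of_hasPullback p _) (q + 1) _
        (LocAcycPointLib.isLTorsion_const hnL)).1 j hj)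
  have hiso : pullback p (Spec.map (CommRingCat.ofHom σ.toRingHom)) ≅
      Spec (CommRingCat.of (EtRest.vcRing RZ RX Ω)) :=
    ((IsPullback.of_hasPullback p _).paste_horiz (IsPullback.of_hasPullback h t₀)).isoPullback ≪≫
      pullback.congrHom rfl hτ ≪≫ pullbackSpecIso RZ RX Ω
  exact point_transport p m hiso n (q + 1) h0 (hbij 0 (Nat.zero_le _)) (hbij (q + 1) le_rfl) hq

end EtLimSmoothLib
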